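import Cfsg.Agent.Lib.Helper50.FOT.Defs

/-!
# FOT (S3999): package [CNT]
-/

set_option autoImplicit false
open scoped Pointwise

namespace Cfsg.Agent.Lib.Helper15.FOT

open Cfsg.Agent.Lib.Helper50.FOT

universe u

theorem pkgCnt : PkgCnt.{u} := by
  intro X _ _ K C hFD m hm hcop
  have hN := hFD.normal
  have hyne : ∀ y : X, orderOf y = m → y ≠ 1 := by
    rintro y hy rfl
    rw [orderOf_one] at hy
    exact hm hy.symm
  have hconj : ∀ k y : X, orderOf (k * y * k⁻¹) = orderOf y := fun k y => by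
    have := (MulAut.conj k).orderOf_eq y
    rwa [MulAut.conj_apply] at this
  let f : K × {y : C // orderOf y = m} → {x : X // orderOf x = m} := fun p =>
    ⟨(p.1 : X) * (p.2.1 : X) * (p.1 : X)⁻¹, by
      rw [hconj, Subgroup.orderOf_coe]; exact p.2.2⟩
  have hinj : Function.Injective f := by
    rintro ⟨⟨k, hk⟩, ⟨⟨y, hy⟩, hym⟩⟩ ⟨⟨k', hk'⟩, ⟨⟨y', hy'⟩, hym'⟩⟩ heq
    have heq' : k * y * k⁻¹ = k' * y' * k'⁻¹ := congrArg Subtype.val heq
    have ha : k * (y * k⁻¹ * y⁻¹) ∈ K := K.mul_mem hk (hN.conj_mem k⁻¹ (K.inv_mem hk) y)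
    have ha' : k' * (y' * k'⁻¹ * y'⁻¹) ∈ K :=
      K.mul_mem hk' (hN.conj_mem k'⁻¹ (K.inv_mem hk') y')
    have h1 : (k * (y * k⁻¹ * y⁻¹)) * y = (k' * (y' * k'⁻¹ * y'⁻¹)) * y' := by
      have e1 : (k * (y * k⁻¹ * y⁻¹)) * y = k * y * k⁻¹ := by group
      have e2 : (k' * (y' * k'⁻¹ * y'⁻¹)) * y' = k' * y' * k'⁻¹ := by group
      rw [e1, e2, heq']
    have h2 := hFD.compl.1 (a₁ := (⟨_, ha⟩, ⟨y, hy⟩)) (a₂ := (⟨_, ha'⟩, ⟨y', hy'⟩)) h1
    have hyy : y = y' := congrArg (fun p : K × C => (p.2 : X)) h2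
    subst hyy
    have hy1 : y ≠ 1 := by
      apply hyne
      rw [← hym, ← Subgroup.orderOf_coe]
    have hj : k'⁻¹ * k ∈ K := K.mul_mem (K.inv_mem hk') hk
    have hcomm : (k'⁻¹ * k) * y = y * (k'⁻¹ * k) := by
      have h3 : k'⁻¹ * (k * y * k⁻¹) * k = k'⁻¹ * (k' * y * k'⁻¹) * k := by rw [heq']
      have e1 : k'⁻¹ * (k * y * k⁻¹) * k = (k'⁻¹ * k) * y := by group
      have e2 : k'⁻¹ * (k' * y * k'⁻¹) * k = y * (k'⁻¹ * k) := by group
      rw [← e1, ← e2, h3]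
    have h4 := hFD.fpf y hy hy1 _ hj hcomm
    have hkk : k = k' := by
      have h5 : k' * (k'⁻¹ * k) = k' * 1 := by rw [h4]
      simpa using h5
    subst hkk
    rfl
  have hsurj : Function.Surjective f := by
    rintro ⟨x, hx⟩
    have hxK : x ∉ K := by
      intro hxK
      have h1 : orderOf x ∣ Nat.card K := Subgroup.orderOf_dvd_natCard K hxK
      rw [hx] at h1
      have h2 : m ∣ Nat.gcd m (Nat.card K) := Nat.dvd_gcd dvd_rfl h1
      have h3 : Nat.gcd m (Nat.card K) = 1 := hcop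
      rw [h3] at h2
      exact hm (Nat.dvd_one.mp h2)
    rcases hFD.cover x with h | ⟨g, hg⟩
    · exact absurd h hxK
    · rw [Subgroup.mem_pointwise_smul_iff_inv_smul_mem] at hg
      have hw : g⁻¹ * x * g ∈ C := by
        have h6 : (MulAut.conj g)⁻¹ • x = g⁻¹ * x * g := by
          rw [MulAut.smul_def, MulAut.conj_inv_apply]
        rwa [h6] at hg
      obtain ⟨⟨⟨k, hk⟩, ⟨c', hc'⟩⟩, hkc⟩ := hFD.compl.2 g
      have hkc' : k * c' = g := hkc
      have hyC : c' * (g⁻¹ * x * g) * c'⁻¹ ∈ C :=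
        C.mul_mem (C.mul_mem hc' hw) (C.inv_mem hc')
      have hxe : k * (c' * (g⁻¹ * x * g) * c'⁻¹) * k⁻¹ = x := by
        rw [← hkc']; group
      refine ⟨(⟨k, hk⟩, ⟨⟨_, hyC⟩, ?_⟩), ?_⟩
      · rw [← Subgroup.orderOf_coe]
        have h7 := hconj k (c' * (g⁻¹ * x * g) * c'⁻¹)
        rw [hxe, hx] at h7
        exact h7.symm
      · apply Subtype.ext
        exact hxe
  have hcard := Nat.card_congr (Equiv.ofBijective f ⟨hinj, hsurj⟩)
  rw [← hcard, Nat.card_prod]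

end Cfsg.Agent.Lib.Helper15.FOT
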